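import Mathlib.RingTheory.TensorProduct.Basic
import Mathlib.LinearAlgebra.TensorProduct.RightExactness
import Mathlib.LinearAlgebra.DirectSum.Finsupp
import Mathlib.LinearAlgebra.TensorProduct.Finiteness

/-!
# The equational criterion for universal injectivity
-/

universe u

open scoped TensorProduct

set_option backward.isDefEq.respectTransparency false

namespace Groth.Agent.SymBC

variable {A : Type*} [CommRing A] {C B M : Type*} [AddCommGroup C] [Module A C] [AddCommGroup B] [Module A B]
  [AddCommGroup M] [Module A M]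

/-- The equational criterion for universal injectivity. -/
theorem lTensor_injective_of_pure (i : C →ₗ[A] B)
    (h : ∀ {l k : ℕ} (a : Fin l → Fin k → A) (x : Fin l → C) (y : Fin k → B),
      (∀ s, i (x s) = ∑ j, a s j • y j) → ∃ y' : Fin k → C, ∀ s, x s = ∑ j, a s j • y' j) :
    Function.Injective (i.lTensor M) := by
  classical
  refine (injective_iff_map_eq_zero _).2 fun z hz => ?_
  let π : (M →₀ A) →ₗ[A] M := Finsupp.linearCombination A _root_.id
  have hπ : Function.Surjective π := fun m => ⟨Finsupp.single m 1, by simp [π]⟩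
  obtain ⟨w, rfl⟩ := LinearMap.rTensor_surjective C hπ z
  have h0 : (π.rTensor B) (i.lTensor (M →₀ A) w) = 0 := by
    rw [← LinearMap.comp_apply, LinearMap.rTensor_comp_lTensor, ← LinearMap.lTensor_comp_rTensor]
    exact hz
  have hex : Function.Exact ((LinearMap.ker π).subtype) π := fun x =>
    ⟨fun hx => ⟨⟨x, hx⟩, rfl⟩, by rintro ⟨y, rfl⟩; exact y.2⟩
  have h9 := @rTensor_exact A (LinearMap.ker π) (M →₀ A) M _ _ _ _ _ _ _ (LinearMap.ker π).subtype π B _ _
  have := h9 hex hπ
  obtain ⟨v, hv⟩ := (this _).1 h0
  obtain ⟨S, rfl⟩ := TensorProduct.exists_finset v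
  let eC := TensorProduct.finsuppScalarLeft A C M
  let eB := TensorProduct.finsuppScalarLeft A B M
  have key : ∀ m, i (eC w m) = ∑ j ∈ S, (j.1.1 m) • j.2 := fun m => by
    have h1 : ∀ u, eB (i.lTensor (M →₀ A) u) m = i (eC u m) := fun u => by
      induction u using TensorProduct.induction_on with
      | zero => simp
      | tmul f c => simp [eB, eC, TensorProduct.finsuppScalarLeft_apply_tmul_apply]
      | add a b ha hb => simp only [map_add, Finsupp.add_apply, ha, hb]
    rw [← h1 w, ← hv]
    simp [map_sum, eB, TensorProduct.finsuppScalarLeft_apply_tmul_apply]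
  let s : Finset M := (eC w).support ∪ S.biUnion fun j => j.1.1.support
  let em := s.equivFin
  let eS := S.equivFin
  obtain ⟨y', hy'⟩ := h (fun a j => (eS.symm j).1.1.1 (em.symm a)) (fun a => eC w (em.symm a))
    (fun j => (eS.symm j).1.2) fun a => by
      rw [key]
      rw [← Finset.sum_coe_sort]
      exact Fintype.sum_equiv eS _ _ fun j => by simp
  have hw : w = ∑ j, ((eS.symm j).1.1.1 : M →₀ A) ⊗ₜ[A] y' j := by
    apply eC.injective
    ext m
    by_cases hm : m ∈ s
    · have := hy' (em ⟨m, hm⟩)
      simp only [Equiv.symm_apply_apply] at this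
      rw [this]
      simp [map_sum, eC, TensorProduct.finsuppScalarLeft_apply_tmul_apply]
    · simp only [s, Finset.mem_union, Finset.mem_biUnion, not_or, not_exists, not_and] at hm
      rw [Finsupp.notMem_support_iff.1 hm.1]
      simp only [map_sum, eC, Finsupp.finsetSum_apply, TensorProduct.finsuppScalarLeft_apply_tmul_apply]
      refine (Finset.sum_eq_zero fun j _ => ?_).symm
      rw [Finsupp.notMem_support_iff.1 (hm.2 _ (eS.symm j).2), zero_smul]
  rw [hw, map_sum]
  refine Finset.sum_eq_zero fun j _ => ?_
  rw [LinearMap.rTensor_tmul, show π ((eS.symm j).1.1.1) = 0 from (eS.symm j).1.1.2, TensorProduct.zero_tmul]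

end Groth.Agent.SymBC
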