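import Groth.Agent.SymBC.Sections
import Groth.Agent.SymBC.TensorInj
import Groth.Agent.SymCmp.Compare
import Groth.Agent.SymCmp.Tensor

/-!
# Base change of symmetric products: injectivity on sections
-/

set_option linter.style.haveILetI false

universe u

open CategoryTheory CategoryTheory.Limits AlgebraicGeometry TopologicalSpace SymProd
open scoped TensorProduct

namespace Groth.Agent.SymBC

variable {X S S' Y : Scheme.{u}} (f : X ⟶ S) {n : ℕ} (b : S' ⟶ S)

/-- Fibre powers commute with base change. -/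
theorem isPullback_fibPow (c : fibPow (pullback.snd f b) n ⟶ fibPow f n)
    (hcπ : ∀ i : Fin n, c ≫ WidePullback.π (fun _ => f) i = WidePullback.π (fun _ => pullback.snd f b) i ≫ pullback.fst f b)
    (hcb : c ≫ WidePullback.base (fun _ => f) = WidePullback.base (fun _ => pullback.snd f b) ≫ b) :
    IsPullback c (WidePullback.base fun _ : Fin n => pullback.snd f b) (WidePullback.base fun _ : Fin n => f) b := by
  refine ⟨⟨hcb⟩, ⟨PullbackCone.IsLimit.mk hcb
    (fun s => WidePullback.lift s.snd (fun i => pullback.lift (s.fst ≫ WidePullback.π (fun _ : Fin n => f) i) s.snd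
      (by rw [Category.assoc, WidePullback.π_arrow]; exact s.condition)) (fun i => pullback.lift_snd _ _ _))
    (fun s => ?_) (fun s => WidePullback.lift_base _ _ _ _) (fun s m h1 h2 => ?_)⟩⟩
  · refine WidePullback.hom_ext _ _ _ (fun i => ?_) ?_
    · rw [Category.assoc, hcπ, WidePullback.lift_π_assoc, pullback.lift_fst]
    · rw [Category.assoc, hcb, WidePullback.lift_base_assoc, s.condition]
  · refine WidePullback.hom_ext _ _ _ (fun i => ?_) (by rw [h2, WidePullback.lift_base])
    rw [WidePullback.lift_π]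
    refine pullback.hom_ext ?_ ?_
    · rw [pullback.lift_fst, Category.assoc, ← hcπ, ← Category.assoc, h1]
    · rw [pullback.lift_snd, Category.assoc, WidePullback.π_arrow, h2]

variable {f b}

/-- Injectivity on sections of the comparison map. -/
theorem injective_app [Flat f] {q : fibPow f n ⟶ Y} {g : Y ⟶ S} (hq : IsSymProd f n q g)
    {P' : Scheme.{u}} {c : P' ⟶ fibPow f n} {π₂ : P' ⟶ S'}
    (hP : IsPullback c π₂ (WidePullback.base fun _ : Fin n => f) b)
    {q' : P' ⟶ pullback g b} (hq'₁ : q' ≫ pullback.fst g b = c ≫ q) (hq'₂ : q' ≫ pullback.snd g b = π₂)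
    {V : Y.Opens} (hV : IsAffineOpen V) {S0 : S.Opens} (hS0 : IsAffineOpen S0) (hVS : V ≤ g ⁻¹ᵁ S0)
    {S0' : S'.Opens} (hS0' : IsAffineOpen S0') (hle : S0' ≤ b ⁻¹ᵁ S0) :
    Function.Injective (q'.app (pullback.fst g b ⁻¹ᵁ V ⊓ pullback.snd g b ⁻¹ᵁ S0')).hom := by
  haveI := hq.isQuot.affine
  set V' := pullback.fst g b ⁻¹ᵁ V ⊓ pullback.snd g b ⁻¹ᵁ S0'
  let base : fibPow f n ⟶ S := WidePullback.base _
  let W := q ⁻¹ᵁ V
  have hW : IsAffineOpen W := hV.preimage q
  have hWS : W ≤ base ⁻¹ᵁ S0 := by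
    intro x hx
    change (WidePullback.base fun _ : Fin n => f) x ∈ S0
    rw [← hq.over, Scheme.Hom.comp_apply]
    exact hVS hx
  have hW' : q' ⁻¹ᵁ V' = c ⁻¹ᵁ W ⊓ π₂ ⁻¹ᵁ S0' := by
    simp only [V', W, Scheme.Hom.preimage_inf, ← Scheme.Hom.comp_preimage, hq'₁, hq'₂]
  haveI := isIso_pushoutSection_of_isAffineOpen (IsPullback.of_hasPullback g b) hle hVS (rfl : V' = _) hS0 hS0' hV
  have hpoT := (isIso_pushoutSection_iff (IsPullback.of_hasPullback g b) hle hVS (rfl : V' = _)).mp this
  haveI := isIso_pushoutSection_of_isAffineOpen hP hle hWS hW' hS0 hS0' hW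
  have hpoP := (isIso_pushoutSection_iff hP hle hWS hW').mp this
  letI : Algebra Γ(S, S0) Γ(S', S0') := (b.appLE S0 S0' hle).hom.toAlgebra
  letI : Algebra Γ(S, S0) Γ(Y, V) := (g.appLE S0 V hVS).hom.toAlgebra
  letI : Algebra Γ(S, S0) Γ(fibPow f n, W) := (base.appLE S0 W hWS).hom.toAlgebra
  obtain ⟨LT, hLT, hLTa⟩ := Groth.Agent.SymCmp.exists_bijective_of_isPushout hpoT.flip
  obtain ⟨LP, hLP, hLPa⟩ := Groth.Agent.SymCmp.exists_bijective_of_isPushout hpoP.flip
  have hcomm : ∀ x, (q.app V).hom (algebraMap Γ(S, S0) Γ(Y, V) x) = algebraMap Γ(S, S0) Γ(fibPow f n, W) x := fun x => by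
    rw [RingHom.algebraMap_toAlgebra, RingHom.algebraMap_toAlgebra, Scheme.Hom.app_eq_appLE,
      ← CommRingCat.comp_apply, Scheme.Hom.appLE_comp_appLE]
    simp only [hq.over]
    rfl
  let i : Γ(Y, V) →ₗ[Γ(S, S0)] Γ(fibPow f n, W) :=
    { toFun := (q.app V).hom
      map_add' := map_add _
      map_smul' := fun x y => by
        rw [Algebra.smul_def, Algebra.smul_def, map_mul, hcomm]; rfl }
  have hinj : Function.Injective (i.lTensor Γ(S', S0')) := by
    refine lTensor_injective_of_pure i fun {l k} a x y hxy => ?_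
    obtain ⟨y', hy'⟩ := SymCmp.pure_sections hq hV hS0 hVS a x y fun s => by
      refine (hxy s).trans (Finset.sum_congr rfl fun j _ => ?_)
      rw [Algebra.smul_def, ← hcomm]; rfl
    exact ⟨y', fun s => (hy' s).trans (Finset.sum_congr rfl fun j _ => (Algebra.smul_def _ _).symm)⟩
  have key : ∀ z, (q'.app V').hom (LT z) = LP (i.lTensor Γ(S', S0') z) := fun z => by
    induction z using TensorProduct.induction_on with
    | zero => simp
    | add a b ha hb => rw [map_add, map_add, ha, hb, map_add, map_add]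
    | tmul s x =>
      rw [LinearMap.lTensor_tmul, hLTa, hLPa, map_mul]
      change _ = _ * (c.appLE W (q' ⁻¹ᵁ V') _).hom ((q.app V).hom x)
      congr 1
      · rw [Scheme.Hom.app_eq_appLE, ← CommRingCat.comp_apply, Scheme.Hom.appLE_comp_appLE]
        simp only [hq'₂]
      · rw [Scheme.Hom.app_eq_appLE, Scheme.Hom.app_eq_appLE, ← CommRingCat.comp_apply, ← CommRingCat.comp_apply,
          Scheme.Hom.appLE_comp_appLE, Scheme.Hom.appLE_comp_appLE]
        simp only [hq'₁]
  intro z z' hzz'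
  obtain ⟨w, rfl⟩ := hLT.2 z
  obtain ⟨w', rfl⟩ := hLT.2 z'
  rw [key, key] at hzz'
  rw [hinj (hLP.1 hzz')]

end Groth.Agent.SymBC
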