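import Groth.Agent.PLaw.SymFlat

/-!
# Symmetric tensors of a flat module are pure in the tensor power
-/

universe u

open scoped TensorProduct

namespace Groth.Agent.SymBC

open Groth.Agent.PLaw

variable {A : Type u} [CommRing A] {M : Type u} [AddCommGroup M] [Module A M] {d : ℕ}

/-- The map from the free module on a finite set of elements. -/
noncomputable def finMap (A : Type u) [CommRing A] {M : Type u} [AddCommGroup M] [Module A M] (s : Finset M) :
    ({m // m ∈ s} →₀ A) →ₗ[A] M :=
  Finsupp.linearCombination A Subtype.val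

theorem range_map_mono {s t : Finset M} (h : s ⊆ t) :
    LinearMap.range (PiTensorProduct.map (fun _ : Fin d => finMap A s)) ≤
      LinearMap.range (PiTensorProduct.map (fun _ : Fin d => finMap A t)) := by
  have e : finMap A t ∘ₗ Finsupp.lmapDomain A A (fun m : {m // m ∈ s} => (⟨m.1, h m.2⟩ : {m // m ∈ t})) =
      finMap A s := Finsupp.lhom_ext fun m a => by simp [finMap]
  rw [← e, PiTensorProduct.map_comp]
  exact LinearMap.range_comp_le_range _ _

theorem exists_finset (x : ⨂[A] _ : Fin d, M) :
    ∃ s : Finset M, x ∈ LinearMap.range (PiTensorProduct.map (fun _ : Fin d => finMap A s)) := by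
  classical
  induction x using PiTensorProduct.induction_on with
  | smul_tprod r f =>
    refine ⟨Finset.univ.image f, r • PiTensorProduct.tprod A fun i => Finsupp.single ⟨f i, by simp⟩ 1, ?_⟩
    simp [finMap]
  | add x y hx hy =>
    obtain ⟨s, hs⟩ := hx
    obtain ⟨t, ht⟩ := hy
    exact ⟨s ∪ t, add_mem (range_map_mono Finset.subset_union_left hs) (range_map_mono Finset.subset_union_right ht)⟩

/-- Symmetric tensors of a flat module are pure in the tensor power: a system of linear equations with
symmetric right-hand side that is soluble in the tensor power is soluble in symmetric tensors. -/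
theorem exists_symTen_combination [Module.Flat A M] {l k : ℕ} (a : Fin l → Fin k → A)
    (x : Fin l → ⨂[A] _ : Fin d, M) (y : Fin k → ⨂[A] _ : Fin d, M) (hx : ∀ i, x i ∈ symTen A M d)
    (h : ∀ i, x i = ∑ j, a i j • y j) :
    ∃ y' : Fin k → ⨂[A] _ : Fin d, M, (∀ j, y' j ∈ symTen A M d) ∧ ∀ i, x i = ∑ j, a i j • y' j := by
  classical
  choose n g u hu hgu using fun i => exists_lift_symTen (hx i)
  choose sy hsy using fun j => exists_finset (y j)
  let s : Finset M := (Finset.univ.biUnion fun i => (Finset.univ : Finset (Fin (n i))).image fun m =>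
    g i (Finsupp.single m 1)) ∪ Finset.univ.biUnion sy
  let G := finMap A s
  have hh : ∀ i, ∃ h : (Fin (n i) →₀ A) →ₗ[A] ({m // m ∈ s} →₀ A), G ∘ₗ h = g i := fun i => by
    refine ⟨Finsupp.linearCombination A fun m =>
      Finsupp.single (⟨g i (Finsupp.single m 1), Finset.mem_union_left _
        (Finset.mem_biUnion.2 ⟨i, Finset.mem_univ _, Finset.mem_image.2 ⟨m, Finset.mem_univ _, rfl⟩⟩)⟩ :
          {m // m ∈ s}) 1, Finsupp.lhom_ext fun m r => ?_⟩
    simp [G, finMap, ← map_smul, Finsupp.smul_single]
  choose lift hlift using hh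
  have hvex : ∀ j, ∃ v : ⨂[A] _ : Fin d, {m // m ∈ s} →₀ A,
      PiTensorProduct.map (fun _ : Fin d => G) v = y j := fun j => range_map_mono
    (Finset.subset_union_right.trans' (Finset.subset_biUnion_of_mem sy (Finset.mem_univ j))) (hsy j)
  choose v hv using hvex
  let U : Fin l → ⨂[A] _ : Fin d, {m // m ∈ s} →₀ A := fun i =>
    PiTensorProduct.map (fun _ : Fin d => lift i) (u i) - ∑ j, a i j • v j
  have hU : ∀ i ∈ (Finset.univ : Finset (Fin l)), PiTensorProduct.map (fun _ : Fin d => G) (U i) = 0 := by
    intro i _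
    simp only [U, map_sub, map_sum, map_smul, hv]
    rw [← LinearMap.comp_apply, ← PiTensorProduct.map_comp, hlift, hgu, ← h, sub_self]
  obtain ⟨k', b, z, hz, hb⟩ := exists_kill G Finset.univ U hU
  let e : Module.Basis (Fin k') A (Fin k' →₀ A) := Finsupp.basisSingleOne
  let w : Fin k → ⨂[A] _ : Fin d, Fin k' →₀ A := fun j =>
    retr e d (PiTensorProduct.map (fun _ : Fin d => b) (v j))
  refine ⟨fun j => PiTensorProduct.map (fun _ : Fin d => z) (w j), fun j => map_mem_symTen z (retr e d _).2,
    fun i => ?_⟩
  have h1 : PiTensorProduct.map (fun _ : Fin d => b) (PiTensorProduct.map (fun _ : Fin d => lift i) (u i)) =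
      ∑ j, a i j • PiTensorProduct.map (fun _ : Fin d => b) (v j) := by
    have := hb i (Finset.mem_univ i)
    simp only [U, map_sub, map_sum, map_smul, sub_eq_zero] at this
    exact this
  have h2 := congrArg (fun t => ((retr e d t : symTen A (Fin k' →₀ A) d) : ⨂[A] _ : Fin d, Fin k' →₀ A)) h1
  have h3 := retr_coe e (⟨_, map_mem_symTen b (map_mem_symTen (lift i) (hu i))⟩ : symTen A (Fin k' →₀ A) d)
  simp only [map_sum, map_smul, Submodule.coe_sum, Submodule.coe_smul] at h2
  rw [h3] at h2
  have h4 := congrArg (PiTensorProduct.map (fun _ : Fin d => z)) h2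
  simp only [map_sum, map_smul] at h4
  rw [← h4, ← LinearMap.comp_apply, ← PiTensorProduct.map_comp, ← hz, ← LinearMap.comp_apply,
    ← PiTensorProduct.map_comp, hlift, hgu]

end Groth.Agent.SymBC
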