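import Groth.Agent.SymCmp.Block
import Groth.Agent.SymBC.Pure

/-!
# Invariants of blocks are pure
-/

set_option linter.style.haveILetI false

universe u

open CategoryTheory CategoryTheory.Limits AlgebraicGeometry TopologicalSpace
open scoped TensorProduct

namespace Groth.Agent.SymCmp

section Algebra

variable {A R C : Type u} [CommRing A] [CommRing R] [Algebra A R] [CommRing C] [Algebra A C] {d : ℕ}
  {γ : Type*} {c : Fin d → γ} {δ : Fin d → R} {π : Fin d → (R →ₐ[A] C)}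

/-- Invariants of a flat block are pure in the block. -/
theorem IsBlock.exists_invariant_combination [Module.Flat A R] (h : IsBlock c δ π)
    (a : Equiv.Perm (Fin d) → (C →ₐ[A] C))
    (ha : ∀ σ ∈ colStab c, ∀ i r, a σ (π i r) = π (σ i) r) {l k : ℕ} (r : Fin l → Fin k → A)
    (x : Fin l → C) (y : Fin k → C) (hx : ∀ i, ∀ σ ∈ colStab c, a σ (x i) = x i)
    (hxy : ∀ i, x i = ∑ j, r i j • y j) :
    ∃ y' : Fin k → C, (∀ j, ∀ σ ∈ colStab c, a σ (y' j) = y' j) ∧ ∀ i, x i = ∑ j, r i j • y' j := by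
  obtain ⟨F, hF⟩ := h.exists_lift_TS a ha
  obtain ⟨w, hw, hxw⟩ := SymBC.exists_symTen_combination r (fun i => F (x i)) (fun j => F (y j))
    (fun i => (hF _ (hx i)).1) (fun i => by rw [hxy i, map_sum]; simp only [map_smul])
  refine ⟨fun j => theta π (w j), fun j σ hσ => ?_, fun i => ?_⟩
  · rw [← theta_perm a σ (ha σ hσ), SymTen.perm_apply, PLaw.mem_symTen.mp (hw j) σ]
  · conv_lhs => rw [← (hF _ (hx i)).2, hxw i, map_sum]
    simp only [map_smul]

end Algebra

variable {Z S P : Scheme.{u}} {d : ℕ}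
variable (base : P ⟶ S) (pr : Fin d → (P ⟶ Z)) {I : Type u} (c : Fin d → I) (U : I → Z.Opens) (O : S.Opens)

variable [DecidableEq I] [Finite I] (p : Equiv.Perm (Fin d) → (P ⟶ P)) {base pr c U O}

/-- Invariants on a box are pure. -/
theorem pure_boxOpen {b : Z ⟶ S} (hP : IsFibPow b base pr) (hO : IsAffineOpen O)
    (hU : ∀ x, IsAffineOpen (U x)) (hle : ∀ x, U x ≤ b ⁻¹ᵁ O) [Flat b]
    (hp : ∀ σ i, p σ ≫ pr i = pr (σ.symm i)) (hpb : ∀ σ, p σ ≫ base = base)
    {l k : ℕ} (s : Fin l → Fin k → Γ(S, O)) (f : Fin l → Γ(P, boxOpen base pr c U O))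
    (g : Fin k → Γ(P, boxOpen base pr c U O))
    (hf : ∀ j σ (hσ : σ ∈ colStab c),
      ((p σ).appLE _ _ (boxOpen_stable base pr c U O σ hσ (p σ) (hp σ) (hpb σ))).hom (f j) = f j)
    (hsum : ∀ i, f i = ∑ j, (base.appLE O _ (boxOpen_le_base base pr c U O)).hom (s i j) * g j) :
    ∃ (β : Fin k → Γ(P, boxOpen base pr c U O)),
      (∀ m σ (hσ : σ ∈ colStab c),
        ((p σ).appLE _ _ (boxOpen_stable base pr c U O σ hσ (p σ) (hp σ) (hpb σ))).hom (β m) = β m) ∧
      ∀ i, f i = ∑ j, (base.appLE O _ (boxOpen_le_base base pr c U O)).hom (s i j) * β j := by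
  classical
  letI algU : ∀ x, Algebra Γ(S, O) Γ(Z, U x) := fun x => (b.appLE O (U x) (hle x)).hom.toAlgebra
  let W := boxOpen base pr c U O
  letI algW : Algebra Γ(S, O) Γ(P, W) := (base.appLE O _ (boxOpen_le_base base pr c U O)).hom.toAlgebra
  obtain ⟨π, hblock, hπ⟩ := isBlock_boxOpen (c := c) hP hO hU hle
  haveI hfl : ∀ x, Module.Flat Γ(S, O) Γ(Z, U x) := fun x => b.flat_appLE hO (hU x) (hle x)
  haveI : Module.Flat Γ(S, O) (∀ x, Γ(Z, U x)) := by
    haveI := Fintype.ofFinite I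
    exact Module.Flat.of_linearEquiv (DirectSum.linearEquivFunOnFintype Γ(S, O) I fun x => Γ(Z, U x)).symm
  let a : Equiv.Perm (Fin d) → (Γ(P, W) →ₐ[Γ(S, O)] Γ(P, W)) := fun σ =>
    if hσ : σ⁻¹ ∈ colStab c then
      { ((p σ⁻¹).appLE W W (boxOpen_stable base pr c U O _ hσ (p σ⁻¹) (hp _) (hpb _))).hom with
        commutes' := fun x => by
          change ((p σ⁻¹).appLE W W _).hom ((base.appLE O W _).hom x) = (base.appLE O W _).hom x
          rw [← CommRingCat.comp_apply, Scheme.Hom.appLE_comp_appLE]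
          simp only [hpb] }
    else AlgHom.id _ _
  have ha : ∀ σ ∈ colStab c, ∀ i r, a σ (π i r) = π (σ i) r := by
    intro σ hσ i r
    have hσ' : σ⁻¹ ∈ colStab c := inv_mem hσ
    simp only [a, dif_pos hσ']
    rw [hπ, hπ]
    change ((p σ⁻¹).appLE W W _).hom (blockPi i r) = blockPi (σ i) r
    unfold blockPi
    rw [← CommRingCat.comp_apply, Scheme.Hom.appLE_comp_appLE]
    simp only [hp, Equiv.Perm.inv_def, Equiv.symm_symm]
    have key : ∀ (x y : I) (hxy : x = y) (e1 : W ≤ pr (σ i) ⁻¹ᵁ U x) (e2 : W ≤ pr (σ i) ⁻¹ᵁ U y),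
        ((pr (σ i)).appLE (U x) W e1).hom (r x) = ((pr (σ i)).appLE (U y) W e2).hom (r y) := by
      rintro x _ rfl e1 e2; rfl
    exact key _ _ (hσ i).symm _ _
  let N : Submodule Γ(S, O) Γ(P, W) :=
    ⨅ σ : colStab c, LinearMap.eqLocus (a σ).toLinearMap LinearMap.id
  have hN : ∀ g, g ∈ N ↔ ∀ σ ∈ colStab c, a σ g = g := by
    intro g; simp [N, LinearMap.mem_eqLocus]
  have hfix : ∀ g : Γ(P, W), (∀ σ (hσ : σ ∈ colStab c),
      ((p σ).appLE _ _ (boxOpen_stable base pr c U O σ hσ (p σ) (hp σ) (hpb σ))).hom g = g) ↔ g ∈ N := by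
    intro g
    rw [hN]
    refine ⟨fun h σ hσ => ?_, fun h σ hσ => ?_⟩
    · simp only [a, dif_pos (inv_mem hσ)]
      exact h σ⁻¹ (inv_mem hσ)
    · obtain ⟨τ, rfl⟩ : ∃ τ, σ = τ⁻¹ := ⟨σ⁻¹, (inv_inv σ).symm⟩
      have := h τ (by simpa using inv_mem hσ)
      simp only [a, dif_pos hσ] at this
      exact this
  obtain ⟨β, hβ, hsum'⟩ := hblock.exists_invariant_combination a ha s f g
    (fun i => (hN _).mp ((hfix _).mp (hf i))) (fun i => by
      rw [hsum i]; simp [Algebra.smul_def, RingHom.algebraMap_toAlgebra])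
  refine ⟨β, fun m => (hfix _).mpr ((hN _).mpr (hβ m)), fun i => ?_⟩
  rw [hsum' i]
  simp [Algebra.smul_def, RingHom.algebraMap_toAlgebra]

section Trace

variable {G : Type*} [Group G] [Finite G] {B : Type*} [CommRing B] [MulSemiringAction G B]
  {A : Type*} [CommRing A] [Algebra A B] [SMulCommClass G A B]

/-- Local-to-global principle for purity of invariants. -/
theorem exists_fix_combination_of_local {l k : ℕ} (a : Fin l → Fin k → A) (x : Fin l → B)
    (hx : ∀ i, x i ∈ fixSubring (⊤ : Subgroup G) B)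
    (h : ∀ q : Ideal B, q.IsPrime → ∃ (H : Subgroup G) (y : B), StabLE q H ∧ y ∈ fixSubring H B ∧ y ∉ q ∧
        ∃ β : Fin k → B, (∀ j, β j ∈ fixSubring H B) ∧ ∀ i, y * x i = ∑ j, a i j • β j) :
    ∃ β : Fin k → B, (∀ j, β j ∈ fixSubring (⊤ : Subgroup G) B) ∧ ∀ i, x i = ∑ j, a i j • β j := by
  let J : Ideal (fixSubring (⊤ : Subgroup G) B) :=
    { carrier := {u | ∃ β : Fin k → B, (∀ j, β j ∈ fixSubring (⊤ : Subgroup G) B) ∧
        ∀ i, (u : B) * x i = ∑ j, a i j • β j}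
      add_mem' := by
        rintro u v ⟨β, hβ, hu⟩ ⟨β', hβ', hv⟩
        exact ⟨β + β', fun j => add_mem (hβ j) (hβ' j), fun i => by
          simp [add_mul, hu, hv, Finset.sum_add_distrib]⟩
      zero_mem' := ⟨0, fun j => zero_mem _, by simp⟩
      smul_mem' := by
        rintro v u ⟨β, hβ, hu⟩
        refine ⟨fun j => v * β j, fun j => mul_mem v.2 (hβ j), fun i => ?_⟩
        rw [smul_eq_mul, Subring.coe_mul, mul_assoc, hu, Finset.mul_sum]
        simp only [mul_smul_comm] }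
  have hJ : J = ⊤ := eq_top_of_local J fun q hq => by
    obtain ⟨H, y, hst, hy, hyq, β, hβ, hyb⟩ := h q hq
    refine ⟨H, y, hst, hy, hyq, fun e he u hu => ?_⟩
    refine ⟨fun j => tr H (e * β j), fun j => tr_mem H (mul_mem he (hβ j)), fun i => ?_⟩
    rw [hu, ← tr_mul H _ (hx i), mul_assoc, hyb, Finset.mul_sum, map_sum]
    refine Finset.sum_congr rfl fun j _ => ?_
    simp only [mul_smul_comm, tr_apply, Finset.smul_sum]
    exact Finset.sum_congr rfl fun g _ => smul_comm _ _ _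
  obtain ⟨β, hβ, h1⟩ := (hJ ▸ Submodule.mem_top : (1 : fixSubring (⊤ : Subgroup G) B) ∈ J)
  exact ⟨β, hβ, fun i => by simpa using h1 i⟩

end Trace

end Groth.Agent.SymCmp
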