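import Groth.Agent.SymCmp.FlatQuot
import Groth.Agent.SymBC.Block

/-!
# Purity of invariant sections
-/

set_option linter.style.haveILetI false

universe u

open CategoryTheory CategoryTheory.Limits AlgebraicGeometry TopologicalSpace SymProd

namespace Groth.Agent.SymCmp

variable {X S Y : Scheme.{u}} {d : ℕ} {f : X ⟶ S} {q : fibPow f d ⟶ Y} {g : Y ⟶ S}

/-- Invariant sections of the symmetric product are pure. -/
theorem pure_sections [Flat f] (hq : IsSymProd f d q g) {V : Y.Opens} (hV : IsAffineOpen V)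
    {S0 : S.Opens} (hS0 : IsAffineOpen S0) (hVS : V ≤ g ⁻¹ᵁ S0) {l k : ℕ} (a : Fin l → Fin k → Γ(S, S0))
    (xx : Fin l → Γ(Y, V)) (yy : Fin k → Γ(fibPow f d, q ⁻¹ᵁ V))
    (hxy : ∀ i, (q.app V).hom (xx i) =
      ∑ j, (q.app V).hom ((g.appLE S0 V hVS).hom (a i j)) * yy j) :
    ∃ yy' : Fin k → Γ(Y, V), ∀ i, xx i = ∑ j, (g.appLE S0 V hVS).hom (a i j) * yy' j := by
  classical
  let P := fibPow f d
  let base : P ⟶ S := WidePullback.base _
  let pr : Fin d → (P ⟶ X) := fun j => WidePullback.π _ j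
  haveI := hq.isQuot.affine
  let W : P.Opens := q ⁻¹ᵁ V
  have hW : IsAffineOpen W := hV.preimage q
  let ρ := permActU f d
  have hWs : ∀ σ, W ≤ (ρ σ).hom ⁻¹ᵁ W := fun σ =>
    SGA1.preimage_le_of_inv ρ q hq.isQuot.inv σ V
  have hWS : W ≤ base ⁻¹ᵁ S0 := by
    change W ≤ (WidePullback.base fun _ : Fin d => f) ⁻¹ᵁ S0
    rw [← hq.over, Scheme.Hom.comp_preimage]
    exact fun x hx => hVS hx
  letI actB : MulSemiringAction (ULift.{u} (Equiv.Perm (Fin d))) Γ(P, W) :=
    SGA1Quot.mulSemiringAction hq.isQuot.inv V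
  letI algB : Algebra Γ(S, S0) Γ(P, W) := (base.appLE S0 W hWS).hom.toAlgebra
  haveI : SMulCommClass (ULift.{u} (Equiv.Perm (Fin d))) Γ(S, S0) Γ(P, W) := ⟨fun σ a x => by
    rw [Algebra.smul_def, Algebra.smul_def]
    change ((ρ σ⁻¹).hom.appLE W W (hWs _)).hom ((base.appLE S0 W hWS).hom a * x) =
      (base.appLE S0 W hWS).hom a * ((ρ σ⁻¹).hom.appLE W W (hWs _)).hom x
    rw [map_mul, ← CommRingCat.comp_apply, Scheme.Hom.appLE_comp_appLE]
    simp only [ρ, base, permActU_hom, permHom_base]⟩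
  have hcomm : ∀ (x : Γ(S, S0)), (q.app V).hom ((g.appLE S0 V hVS).hom x) =
      algebraMap Γ(S, S0) Γ(P, W) x := fun x => by
    rw [RingHom.algebraMap_toAlgebra, Scheme.Hom.app_eq_appLE,
      ← CommRingCat.comp_apply, Scheme.Hom.appLE_comp_appLE]
    simp only [hq.over]
    rfl
  let b : Fin l → Γ(P, W) := fun i => (q.app V).hom (xx i)
  have hb : ∀ i, b i ∈ fixSubring (⊤ : Subgroup (ULift.{u} (Equiv.Perm (Fin d)))) Γ(P, W) := fun i σ _ =>
    (hq.isQuot.range_iff V _).mp ⟨xx i, rfl⟩ σ⁻¹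
  have hab : ∀ i, b i = ∑ j, a i j • yy j := fun i => by
    refine (hxy i).trans (Finset.sum_congr rfl fun j _ => ?_)
    rw [Algebra.smul_def, hcomm]
  obtain ⟨β₀, hβ₀, hxβ⟩ := exists_fix_combination_of_local a b hb fun q0 hq0 => by
    let p : PrimeSpectrum Γ(P, W) := ⟨q0, hq0⟩
    let z : P := hW.fromSpec p
    have hzW : z ∈ W := hW.range_fromSpec.le ⟨_, rfl⟩
    have hmem : ∀ x : Γ(P, W), z ∈ P.basicOpen x ↔ x ∉ q0 := fun x => by
      change p ∈ hW.fromSpec ⁻¹ᵁ P.basicOpen x ↔ _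
      rw [hW.fromSpec_preimage_basicOpen]; rfl
    let I : Type u := Set.range fun j => pr j z
    let cc : Fin d → I := fun j => ⟨pr j z, j, rfl⟩
    have hzS : base z ∈ S0 := hWS hzW
    have hU : ∀ x : I, ∃ U : X.Opens, IsAffineOpen U ∧ (x : X) ∈ U ∧ U ≤ f ⁻¹ᵁ S0 := by
      rintro ⟨_, j, rfl⟩
      obtain ⟨U, hU, hxU, hUle⟩ := exists_isAffineOpen_mem_and_subset (x := pr j z) (U := f ⁻¹ᵁ S0)
        (by
          change f (pr j z) ∈ S0
          rw [← Scheme.Hom.comp_apply, WidePullback.π_arrow]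
          exact hzS)
      exact ⟨U, hU, hxU, hUle⟩
    choose U hUa hUx hUS using hU
    let H : Subgroup (ULift.{u} (Equiv.Perm (Fin d))) :=
      (colStab cc).comap MulEquiv.ulift.toMonoidHom
    have hst : StabLE q0 H := by
      intro σ hσ
      have hfix : (ρ σ⁻¹).hom z = z := by
        refine eq_of_forall_mem_basicOpen hW (hWs _ hzW) hzW fun x => ?_
        rw [hmem, ← hσ x, ← hmem]
        change _ ↔ z ∈ P.basicOpen (((ρ σ⁻¹).hom.appLE W W (hWs _)).hom x)
        rw [Scheme.basicOpen_appLE]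
        exact ⟨fun h => ⟨hzW, h⟩, fun h => h.2⟩
      intro j
      refine Subtype.ext ?_
      change pr (σ.down j) z = pr j z
      conv_rhs => rw [← hfix]
      have e : (ρ σ⁻¹).hom ≫ pr j = pr (σ.down j) := permHom_π f d _ j
      rw [← e]
      rfl
    let ρH := ρ.comp H.subtype
    let W0 : P.Opens := boxOpen base pr cc U S0
    have hP : IsFibPow f base pr := isFibPow_fibPow f d
    have hW0 : IsAffineOpen W0 := hP.isAffineOpen_boxOpen hS0 hUa hUS
    have hW0s : ∀ k : H, W0 ≤ (ρH k).hom ⁻¹ᵁ W0 := fun k =>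
      boxOpen_stable base pr cc U S0 k.1.down k.2 _ (fun i => permHom_π f d _ i) (permHom_base f d _)
    have hzW0 : z ∈ W0 := (mem_boxOpen _ _ _ _ _).mpr ⟨hzS, fun j => hUx (cc j)⟩
    have hWsH : ∀ k : H, W ≤ (ρH k).hom ⁻¹ᵁ W := fun k => hWs k
    obtain ⟨h1, hh1, hz1, hle1⟩ := exists_inv_basicOpen hW hWsH hW0s hzW hzW0
    obtain ⟨h2, hh2, hz2, hle2⟩ := exists_inv_basicOpen hW0 hW0s hh1.basicOpen_stable hzW0 hz1
    obtain ⟨h3, hh3, hz3, hle3⟩ := exists_inv_basicOpen hW hWsH hh2.basicOpen_stable hzW hz2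
    have hle2W : P.basicOpen h2 ≤ W := hle2.trans (P.basicOpen_le h1)
    have hle30 : P.basicOpen h3 ≤ W0 := hle3.trans (P.basicOpen_le h2)
    have hD2s : ∀ k : H, P.basicOpen h2 ≤ (ρH k).hom ⁻¹ᵁ P.basicOpen h2 := hh2.basicOpen_stable
    have hD3s : ∀ k : H, P.basicOpen h3 ≤ (ρH k).hom ⁻¹ᵁ P.basicOpen h3 := hh3.basicOpen_stable
    have hbH : ∀ j, InvOn ρH hWsH (b j) := fun j k => by
      have := hb j (k : ULift.{u} (Equiv.Perm (Fin d)))⁻¹ (Subgroup.mem_top _)
      change ((ρ ((k : ULift.{u} (Equiv.Perm (Fin d)))⁻¹)⁻¹).hom.appLE W W (hWs _)).hom (b j) = b j at this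
      simp only [inv_inv] at this
      exact this
    -- extend the sections to the box
    choose n t ht htb using fun j => hh2.exists_lift hW0 rfl (P.basicOpen_le h2) (hDs := hD2s)
      ((hbH j).map (hD := hD2s) hle2W)
    let res2 : Γ(P, W0) →+* Γ(P, P.basicOpen h2) :=
      (P.presheaf.map (homOfLE (P.basicOpen_le h2)).op).hom
    let resW2 : Γ(P, W) →+* Γ(P, P.basicOpen h2) := (P.presheaf.map (homOfLE hle2W).op).hom
    have hlifty : ∀ j, ∃ (n : ℕ) (s : Γ(P, W0)), (P.presheaf.map (homOfLE (P.basicOpen_le h2)).op).hom s =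
        (P.presheaf.map (homOfLE (P.basicOpen_le h2)).op).hom h2 ^ n *
          (P.presheaf.map (homOfLE hle2W).op).hom (yy j) := fun j => by
      haveI := hW0.isLocalization_basicOpen h2
      obtain ⟨n, s, hs⟩ := IsLocalization.Away.surj h2 ((P.presheaf.map (homOfLE hle2W).op).hom (yy j))
      refine ⟨n, s, hs.symm.trans ?_⟩
      rw [mul_comm]
      rfl
    choose ny ty hty using hlifty
    let N := max (Finset.univ.sup n) (Finset.univ.sup ny)
    let t' : Fin l → Γ(P, W0) := fun j => h2 ^ (N - n j) * t j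
    have ht' : ∀ j, res2 (t' j) = res2 h2 ^ N * resW2 (b j) := fun j => by
      simp only [t', map_mul, map_pow]
      change res2 h2 ^ (N - n j) * res2 (t j) = _
      rw [show res2 (t j) = res2 h2 ^ n j * resW2 (b j) from htb j, ← mul_assoc, ← pow_add,
        Nat.sub_add_cancel ((Finset.le_sup (Finset.mem_univ j)).trans (le_max_left _ _))]
    let s0 : Γ(S, S0) →+* Γ(P, W0) := (base.appLE S0 W0 (boxOpen_le_base base pr cc U S0)).hom
    have hs0 : ∀ x, res2 (s0 x) = resW2 (algebraMap Γ(S, S0) Γ(P, W) x) := fun x => by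
      rw [RingHom.algebraMap_toAlgebra]
      simp only [res2, resW2, s0, ← CommRingCat.comp_apply, Scheme.Hom.appLE_map]
    let ty' : Fin k → Γ(P, W0) := fun j => h2 ^ (N - ny j) * ty j
    have hty' : ∀ j, res2 (ty' j) = res2 h2 ^ N * resW2 (yy j) := fun j => by
      simp only [ty', map_mul, map_pow]
      change res2 h2 ^ (N - ny j) * res2 (ty j) = _
      rw [show res2 (ty j) = res2 h2 ^ ny j * resW2 (yy j) from hty j, ← mul_assoc, ← pow_add,
        Nat.sub_add_cancel ((Finset.le_sup (Finset.mem_univ j)).trans (le_max_right _ _))]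
    have hm0 : ∀ i, ∃ m : ℕ, h2 ^ m * t' i = h2 ^ m * ∑ j, s0 (a i j) * ty' j := fun i =>
      exists_pow_mul_eq hW0 h2 rfl (P.basicOpen_le h2) (by
        change res2 _ = res2 _
        rw [ht', map_sum, hab i, map_sum, Finset.mul_sum]
        refine Finset.sum_congr rfl fun j _ => ?_
        rw [map_mul, hty', hs0, Algebra.smul_def, map_mul]
        ring)
    choose mi hmi using hm0
    let m := Finset.univ.sup mi
    have hm : ∀ i, h2 ^ m * t' i = ∑ j, s0 (a i j) * (h2 ^ m * ty' j) := fun i => by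
      have hle' : mi i ≤ m := Finset.le_sup (Finset.mem_univ i)
      calc h2 ^ m * t' i = h2 ^ (m - mi i) * (h2 ^ mi i * t' i) := by
            rw [← mul_assoc (h2 ^ (m - mi i)), ← pow_add (a := h2), Nat.sub_add_cancel hle']
        _ = _ := by
            rw [hmi i, ← mul_assoc, ← pow_add, Nat.sub_add_cancel hle', Finset.mul_sum]
            exact Finset.sum_congr rfl fun j _ => by ring
    obtain ⟨β, hβ, htβ⟩ := pure_boxOpen (c := cc) (U := U)
      (fun σ => (ρ ⟨σ⟩).hom) hP hS0 hUa hUS (fun σ i => permHom_π f d σ i) (fun σ => permHom_base f d σ)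
      a (fun j => h2 ^ m * t' j) (fun j => h2 ^ m * ty' j) (fun j σ hσ => by
        have e1 : InvOn ρH hW0s (h2 ^ m * t' j) := fun k' => by
          simp only [t', map_mul, map_pow, hh2 k', ht j k']
        exact e1 ⟨⟨σ⟩, hσ⟩) hm
    -- back to `W`
    have hunit : IsUnit ((P.presheaf.map (homOfLE hle30).op).hom h2) := by
      have e : P.presheaf.map (homOfLE hle30).op =
          P.presheaf.map (homOfLE (P.basicOpen_le h2)).op ≫ P.presheaf.map (homOfLE hle3).op := by
        rw [← Functor.map_comp]; rfl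
      rw [e, CommRingCat.comp_apply]
      exact (P.toRingedSpace.isUnit_res_basicOpen h2).map _
    obtain ⟨v, hv⟩ := hunit.exists_left_inv
    have hvinv : InvOn ρH hD3s v := fun k' => by
      refine hunit.mul_left_inj.mp ?_
      conv_lhs => arg 2; rw [← hh2.map (hD := hD3s) hle30 k']
      rw [← map_mul, hv, map_one]
    let res30 : Γ(P, W0) →+* Γ(P, P.basicOpen h3) := (P.presheaf.map (homOfLE hle30).op).hom
    let res3 : Γ(P, W) →+* Γ(P, P.basicOpen h3) :=
      (P.presheaf.map (homOfLE (P.basicOpen_le h3)).op).hom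
    have hlift : ∀ e : Fin k, InvOn ρH hD3s (v ^ (m + N) * res30 (β e)) := fun e k' => by
      have := (show InvOn ρH hW0s (β e) from fun k'' => hβ e k''.1.down k''.2).map (hD := hD3s) hle30 k'
      simp only [map_mul, map_pow, hvinv k', res30, this]
    choose n3 β' hβ' hβe using fun e => hh3.exists_lift hW rfl (P.basicOpen_le h3) (hlift e)
    let M := Finset.univ.sup n3
    have hresc : ∀ j, res3 (h3 ^ M * b j) =
        res3 (∑ e, a j e • (h3 ^ (M - n3 e) * β' e)) := by
      intro j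
      have e2 : res3 (b j) = v ^ (m + N) * res30 (h2 ^ m * t' j) := by
        have e3 : res30 (t' j) = res30 h2 ^ N * res3 (b j) := by
          have := congrArg (P.presheaf.map (homOfLE hle3).op).hom (ht' j)
          simp only [res2, resW2, map_mul, map_pow, ← CommRingCat.comp_apply, ← Functor.map_comp,
            ← op_comp, homOfLE_comp] at this
          exact this
        rw [map_mul, map_pow, e3, ← mul_assoc (res30 h2 ^ m), ← pow_add, ← mul_assoc, ← mul_pow, hv,
          one_pow, one_mul]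
      rw [map_mul, e2, htβ j, map_sum, map_sum, Finset.mul_sum, Finset.mul_sum]
      refine Finset.sum_congr rfl fun e _ => ?_
      have es : res30 (s0 (a j e)) = res3 (algebraMap Γ(S, S0) Γ(P, W) (a j e)) := by
        rw [RingHom.algebraMap_toAlgebra]
        simp only [res30, res3, s0, ← CommRingCat.comp_apply, Scheme.Hom.appLE_map]
      rw [Algebra.smul_def, map_mul, map_mul, map_mul,
        show res3 (β' e) = res3 h3 ^ n3 e * (v ^ (m + N) * res30 (β e)) from hβe e, map_pow, map_pow,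
        show res30 ((base.appLE S0 W0 (boxOpen_le_base base pr cc U S0)).hom (a j e)) = _ from es,
        ← mul_assoc (res3 h3 ^ (M - n3 e)), ← pow_add,
        Nat.sub_add_cancel (Finset.le_sup (f := n3) (Finset.mem_univ e))]
      ring
    have hk : ∀ j, ∃ r : ℕ, h3 ^ r * (h3 ^ M * b j) =
        h3 ^ r * ∑ e, a j e • (h3 ^ (M - n3 e) * β' e) :=
      fun j => exists_pow_mul_eq hW h3 rfl (P.basicOpen_le h3) (hresc j)
    choose r hr using hk
    let R := Finset.univ.sup r
    have hfix3 : h3 ∈ fixSubring H Γ(P, W) := fun σ hσ => hh3 ⟨σ⁻¹, H.inv_mem hσ⟩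
    refine ⟨H, h3 ^ (R + M), hst, pow_mem hfix3 _,
      fun h => (hmem h3).mp hz3 (hq0.mem_of_pow_mem _ h),
      fun e => h3 ^ R * (h3 ^ (M - n3 e) * β' e), fun e => ?_, fun j => ?_⟩
    · exact mul_mem (pow_mem hfix3 _)
        (mul_mem (pow_mem hfix3 _) fun σ hσ => hβ' e ⟨σ⁻¹, H.inv_mem hσ⟩)
    · have hle' : r j ≤ R := Finset.le_sup (f := r) (Finset.mem_univ j)
      calc h3 ^ (R + M) * b j = h3 ^ (R - r j) * (h3 ^ r j * (h3 ^ M * b j)) := by
            rw [← mul_assoc, ← mul_assoc, ← pow_add, ← pow_add, Nat.sub_add_cancel hle']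
        _ = h3 ^ (R - r j) * (h3 ^ r j * ∑ e, a j e • (h3 ^ (M - n3 e) * β' e)) := by rw [hr j]
        _ = ∑ e, a j e • (h3 ^ R * (h3 ^ (M - n3 e) * β' e)) := by
            rw [← mul_assoc, ← pow_add, Nat.sub_add_cancel hle', Finset.mul_sum]
            exact Finset.sum_congr rfl fun e _ => mul_smul_comm _ _ _
  have hv : ∀ j, ∃ v, (q.app V).hom v = β₀ j := fun j => (hq.isQuot.range_iff V _).mpr fun σ => by
    have h : ((ρ σ⁻¹⁻¹).hom.appLE W W (hWs _)).hom (β₀ j) = β₀ j := hβ₀ j σ⁻¹ (Subgroup.mem_top _)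
    simp only [inv_inv] at h
    exact h
  choose v hv using hv
  refine ⟨v, fun i => hq.isQuot.injective V ?_⟩
  rw [show (q.app V).hom (xx i) = b i from rfl, hxβ i, map_sum]
  exact Finset.sum_congr rfl fun j _ => by rw [map_mul, hv, hcomm, Algebra.smul_def]

end Groth.Agent.SymCmp
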